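import Cfsg.Agent.TIHall.Basic
import Cfsg.Agent.QuatCore.Aut
import Cfsg.Agent.Coprime.Sylow
import Cfsg.Agent.PGroup.UniqueOrderP

/-!
# The automizer of a Hall subgroup all whose abelian subgroups are cyclic

If `H` is a normal Hall subgroup of `N` whose abelian subgroups are cyclic, every element of `[N, N]`
lies in `H` times a normal subgroup of order prime to `|H|` centralizing `H`.
-/

set_option autoImplicit false

open scoped commutatorElement

namespace CfsgLib.TIHall

/-- A `2`-group all whose abelian subgroups are cyclic has at most one involution. -/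
theorem atMostOneInvolution_of_cyclic {P : Type*} [Group P] [Finite P]
    (hcyc : ∀ A : Subgroup P, IsMulCommutative A → IsCyclic A) (hP : IsPGroup 2 P) :
    CfsgLib.TwoGroup.AtMostOneInvolution P := by
  classical
  haveI : Fact (Nat.Prime 2) := ⟨Nat.prime_two⟩
  intro x y hx hy
  haveI : Nontrivial P := ⟨⟨x, 1, fun h => by rw [h, orderOf_one] at hx; omega⟩⟩
  obtain ⟨z, hz⟩ : ∃ z : Subgroup.center P, orderOf z = 2 := by
    haveI := hP.center_nontrivial
    obtain ⟨n, hn⟩ := (hP.to_subgroup (Subgroup.center P)).exists_card_eq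
    have : n ≠ 0 := fun h0 => by
      have h1 := Finite.one_lt_card (α := Subgroup.center P)
      rw [hn, h0, pow_zero] at h1
      omega
    exact exists_prime_orderOf_dvd_card' 2 (hn ▸ dvd_pow_self 2 this)
  have hz' : orderOf (z : P) = 2 := by rw [Subgroup.orderOf_coe]; exact hz
  have key : ∀ w : P, orderOf w = 2 → w = (z : P) := by
    intro w hw
    have hc : (z : P) * w = w * (z : P) := (Subgroup.mem_center_iff.1 z.2 w).symm
    set A := Subgroup.closure ({(z : P), w} : Set P) with hA
    have hAc : IsMulCommutative A := Subgroup.isMulCommutative_closure fun a ha b hb => by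
      rcases ha with rfl | rfl <;> rcases hb with rfl | rfl <;>
        first | rfl | exact hc | exact hc.symm
    haveI := hcyc A hAc
    haveI := Fintype.ofFinite A
    by_contra hne
    let w' : A := ⟨w, Subgroup.subset_closure (by simp)⟩
    let z' : A := ⟨(z : P), Subgroup.subset_closure (by simp)⟩
    have hsub : ({1, w', z'} : Finset A) ⊆ Finset.univ.filter fun a : A => a ^ 2 = 1 := by
      intro a ha
      rw [Finset.mem_filter]
      refine ⟨Finset.mem_univ _, Subtype.ext ?_⟩
      simp only [Finset.mem_insert, Finset.mem_singleton] at ha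
      rcases ha with rfl | rfl | rfl
      · simp
      · simpa [w', hw] using pow_orderOf_eq_one w
      · simpa [z', hz'] using pow_orderOf_eq_one (z : P)
    have h3 := (Finset.card_le_card hsub).trans (IsCyclic.card_pow_eq_one_le (α := A) (n := 2) (by norm_num))
    have hne' : w' ≠ z' := fun h => hne (congrArg (fun a : A => (a : P)) h)
    have hw1 : (1 : A) ≠ w' := fun h => by
      have h' : (1 : P) = w := congrArg (fun a : A => (a : P)) h
      rw [← h', orderOf_one] at hw
      omega
    have hz1 : (1 : A) ≠ z' := fun h => by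
      have h' : (1 : P) = (z : P) := congrArg (fun a : A => (a : P)) h
      rw [← h', orderOf_one] at hz'
      omega
    rw [Finset.card_insert_of_notMem (by simp [hw1, hz1]),
      Finset.card_insert_of_notMem (by simp [hne']), Finset.card_singleton] at h3
    omega
  rw [key x hx, key y hy]

/-- A `q`-group (`q` odd) whose abelian subgroups are cyclic is cyclic. -/
theorem isCyclic_of_odd {P : Type*} [Group P] [Finite P]
    (hcyc : ∀ A : Subgroup P, IsMulCommutative A → IsCyclic A) {q : ℕ} [Fact q.Prime] (hq : q ≠ 2)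
    (hP : IsPGroup q P) : IsCyclic P := by
  by_contra hnc
  obtain ⟨E, -, hE, hEcard⟩ := CfsgLib.PGroup.exists_normal_elementary_sq hq hP hnc
  haveI := hcyc E hE.1
  obtain ⟨g, hg⟩ := IsCyclic.exists_generator (α := E)
  have h3 : orderOf g = Nat.card E := orderOf_eq_card_of_forall_mem_zpowers hg
  have h5 := orderOf_dvd_of_pow_eq_one (show g ^ q = 1 from Subtype.ext (hE.2 g g.2))
  rw [h3, hEcard] at h5
  have h6 := Nat.le_of_dvd (Fact.out : q.Prime).pos h5
  have := (Fact.out : q.Prime).two_le
  nlinarith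

/-- A `q'`-quotient of a group of automorphisms of such a `q`-group is abelian. -/
theorem quotient_comm_mulAut {P : Type*} [Group P] [Finite P]
    (hcyc : ∀ A : Subgroup P, IsMulCommutative A → IsCyclic A) {q : ℕ} [Fact q.Prime]
    (hP : IsPGroup q P) (U : Subgroup (MulAut P)) (V : Subgroup U) [V.Normal]
    (hV : ¬ q ∣ V.index) : ∀ a b : U, ⁅a, b⁆ ∈ V := by
  intro a b
  by_cases hq : q = 2
  · subst hq
    rcases CfsgLib.QuatCore.aut_or_q8 hP (atMostOneInvolution_of_cyclic hcyc hP) with h | ⟨⟨e⟩⟩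
    · obtain ⟨n, hn⟩ := (h.to_subgroup U).exists_card_eq
      obtain ⟨k, -, hk⟩ := (Nat.dvd_prime_pow Nat.prime_two).1 (hn ▸ V.index_dvd_card)
      have hk0 : k = 0 := by
        by_contra h0
        exact hV (hk ▸ dvd_pow_self 2 h0)
      rw [hk0, pow_zero, Subgroup.index_eq_one] at hk
      rw [hk]
      exact Subgroup.mem_top _
    · have h24 : Nat.card U ∣ 24 := by
        have := CfsgLib.QuatCore.card_aut_q8 (U.map (MulAut.congr e).toMonoidHom)
        rwa [Subgroup.card_map_of_injective (MulAut.congr e).injective] at this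
      have h3 : V.index ∣ 3 := by
        have h1 : V.index ∣ 2 ^ 3 * 3 := V.index_dvd_card.trans h24
        exact (Nat.Coprime.pow_right 3 ((Nat.prime_two.coprime_iff_not_dvd.2 hV).symm)).dvd_of_dvd_mul_left h1
      haveI : IsCyclic (U ⧸ V) := by
        rcases (Nat.dvd_prime Nat.prime_three).1 h3 with h | h
        · haveI : Subsingleton (U ⧸ V) := (Nat.card_eq_one_iff_unique.1 (h ▸ (Subgroup.index_eq_card V).symm)).1
          exact isCyclic_of_subsingleton
        · haveI : Fact (Nat.Prime 3) := ⟨Nat.prime_three⟩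
          exact isCyclic_of_prime_card ((Subgroup.index_eq_card V).symm.trans h)
      rw [← QuotientGroup.eq_one_iff, ← QuotientGroup.mk'_apply, map_commutatorElement,
        commutatorElement_eq_one_iff_mul_comm]
      exact IsCyclic.commGroup.mul_comm _ _
  · haveI := isCyclic_of_odd hcyc hq hP
    have h1 : (a : MulAut P) * b = b * a := (IsCyclic.mulAutMulEquiv (G := P)).injective (by
      rw [map_mul, map_mul, mul_comm])
    rw [show ⁅a, b⁆ = 1 from commutatorElement_eq_one_iff_mul_comm.2 (Subtype.ext h1)]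
    exact one_mem _

/-- The elements of order prime to `|H|` centralizing the normal Hall subgroup `H`. -/
theorem exists_coprime_centralizer {N : Type*} [Group N] [Finite N] (H : Subgroup N) [H.Normal]
    (hcop : (Nat.card H).Coprime H.index) :
    ∃ K : Subgroup N, K.Normal ∧ (Nat.card K).Coprime (Nat.card H) ∧
      ∀ c ∈ Subgroup.centralizer (H : Set N), (orderOf c).Coprime (Nat.card H) → c ∈ K := by
  set C := Subgroup.centralizer (H : Set N) with hC
  haveI : C.Normal := Subgroup.normal_centralizer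
  set Z := H.subgroupOf C with hZ
  haveI : Z.Normal := inferInstance
  have hZH : Nat.card Z ∣ Nat.card H := by
    rw [hZ, ← Subgroup.card_map_of_injective C.subtype_injective, Subgroup.subgroupOf_map_subtype]
    exact Subgroup.card_dvd_of_le inf_le_left
  have hZi : Z.index ∣ H.index := Subgroup.relIndex_dvd_index_of_normal H C
  have hZc : (Nat.card Z).Coprime Z.index := (hcop.coprime_dvd_left hZH).coprime_dvd_right hZi
  obtain ⟨L, hL⟩ := Subgroup.exists_right_complement'_of_coprime hZc
  have hLi : Nat.card L = Z.index := hL.symm.index_eq_card.symm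
  have hLH : (Nat.card L).Coprime (Nat.card H) := hLi ▸ (hcop.coprime_dvd_right hZi).symm
  have hmem : ∀ c ∈ C, (orderOf c).Coprime (Nat.card H) → c ∈ L.map C.subtype := by
    intro c hc hco
    obtain ⟨⟨⟨z, hz⟩, ⟨l, hl⟩⟩, he⟩ := hL.2 ⟨c, hc⟩
    simp only at he
    have hcomm : Commute (z : N) (l : N) := Subgroup.mem_centralizer_iff.1 l.2 _ hz
    have hc' : c = (z : N) * (l : N) := (congrArg Subtype.val he).symm
    have hz1 : (z : N) = 1 := by
      have h1 : ((z : N) * (l : N)) ^ (orderOf c * Nat.card L) = 1 := by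
        rw [← hc', pow_mul, pow_orderOf_eq_one, one_pow]
      rw [hcomm.mul_pow] at h1
      have h2 : (l : N) ^ (orderOf c * Nat.card L) = 1 := by
        rw [mul_comm (orderOf c), pow_mul, show (l : N) ^ Nat.card L = 1 from
          congrArg (fun x : L => ((x : C) : N)) (pow_card_eq_one' (x := (⟨l, hl⟩ : L))), one_pow]
      rw [h2, mul_one] at h1
      exact orderOf_eq_one_iff.1 (Nat.eq_one_of_dvd_coprimes (hco.mul_left hLH)
        (orderOf_dvd_of_pow_eq_one h1) (Subgroup.orderOf_dvd_natCard H hz))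
    refine ⟨l, hl, ?_⟩
    rw [hc', hz1, one_mul]
    rfl
  refine ⟨L.map C.subtype, ⟨fun c hc g => ?_⟩, ?_, hmem⟩
  · obtain ⟨l, hl, rfl⟩ := hc
    refine hmem _ ((inferInstance : C.Normal).conj_mem _ l.2 g) ?_
    rw [show g * C.subtype l * g⁻¹ = MulAut.conj g (C.subtype l) from rfl, MulEquiv.orderOf_eq,
      Subgroup.coe_subtype, Subgroup.orderOf_coe]
    exact hLH.coprime_dvd_left (Subgroup.orderOf_dvd_natCard L hl)
  · rwa [Subgroup.card_map_of_injective C.subtype_injective]

/-- An element of `[N, N]` is, modulo `H`, an element of order prime to `|H|` centralizing `H`. -/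
theorem exists_centralizing_lift {N : Type*} [Group N] [Finite N] (H : Subgroup N) [H.Normal]
    (hcop : (Nat.card H).Coprime H.index) (hcyc : ∀ A : Subgroup H, IsMulCommutative A → IsCyclic A)
    {x : N} (hx : x ∈ commutator N) :
    ∃ a : N, a⁻¹ * x ∈ H ∧ (orderOf a).Coprime (Nat.card H) ∧ a ∈ Subgroup.centralizer (H : Set N) := by
  obtain ⟨e, he1, he0⟩ := Nat.chineseRemainder hcop.symm 1 0
  set m := Nat.card H with hm
  set k := H.index with hk
  have hme : m ∣ e := Nat.modEq_zero_iff_dvd.1 he0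
  -- the `H'`-part of an element
  have hpart : ∀ y : N, (y ^ e) ^ k = 1 ∧ QuotientGroup.mk' H (y ^ e) = QuotientGroup.mk' H y := by
    intro y
    constructor
    · obtain ⟨c, hc⟩ := hme
      rw [← pow_mul, hc, show m * c * k = m * k * c by ring, pow_mul, hm, hk, Subgroup.card_mul_index,
        pow_card_eq_one', one_pow]
    · have hord : orderOf (QuotientGroup.mk' H y) ∣ k := by
        rw [hk, Subgroup.index_eq_card]
        exact orderOf_dvd_natCard _
      rw [map_pow]
      nth_rewrite 2 [← pow_one (QuotientGroup.mk' H y)]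
      exact pow_eq_pow_iff_modEq.2 (Nat.ModEq.of_dvd hord he1)
  set a := x ^ e with ha
  have hak : (orderOf a).Coprime m :=
    hcop.symm.coprime_dvd_left (orderOf_dvd_of_pow_eq_one (hpart x).1)
  have hax : a⁻¹ * x ∈ H := by
    rw [← QuotientGroup.eq]
    exact (hpart x).2
  refine ⟨a, hax, hak, ?_⟩
  -- `C_H(a)` contains a Sylow subgroup for every prime
  set D := (Subgroup.centralizer ({a} : Set N)).subgroupOf H with hD
  suffices hDtop : D = ⊤ by
    rw [Subgroup.mem_centralizer_iff]
    intro h hh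
    have h1 : (⟨h, hh⟩ : H) ∈ D := hDtop ▸ Subgroup.mem_top _
    exact Subgroup.mem_centralizer_singleton_iff.1 (Subgroup.mem_subgroupOf.1 h1)
  refine Subgroup.index_eq_one.1 ?_
  by_contra hne
  obtain ⟨q, hq, hqD⟩ := Nat.exists_prime_and_dvd hne
  haveI := Fact.mk hq
  obtain ⟨P⟩ : Nonempty (Sylow q H) := inferInstance
  set P₀ : Subgroup N := (P : Subgroup H).map H.subtype with hP₀
  have hP₀H : P₀ ≤ H := Subgroup.map_subtype_le _
  set M := Subgroup.normalizer (P₀ : Set N) with hM
  have hfr : M ⊔ H = ⊤ := Sylow.normalizer_sup_eq_top P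
  have hcomm : commutator N ≤ (commutator M).map M.subtype ⊔ H := by
    rw [commutator_def, Subgroup.commutator_le]
    intro g₁ _ g₂ _
    obtain ⟨m₁, hm₁, h₁, hh₁, rfl⟩ := Subgroup.mem_sup_of_normal_right.1 (hfr.symm ▸ Subgroup.mem_top g₁)
    obtain ⟨m₂, hm₂, h₂, hh₂, rfl⟩ := Subgroup.mem_sup_of_normal_right.1 (hfr.symm ▸ Subgroup.mem_top g₂)
    have h1 : ⁅m₁, m₂⁆ ∈ (commutator M).map M.subtype :=
      ⟨⁅(⟨m₁, hm₁⟩ : M), ⟨m₂, hm₂⟩⁆,
        Subgroup.commutator_mem_commutator (Subgroup.mem_top _) (Subgroup.mem_top _), rfl⟩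
    have h2 : ⁅m₁, m₂⁆⁻¹ * ⁅m₁ * h₁, m₂ * h₂⁆ ∈ H := by
      have hk : ∀ h ∈ H, QuotientGroup.mk' H h = 1 := fun h hh => (QuotientGroup.eq_one_iff h).2 hh
      rw [← QuotientGroup.eq_one_iff, ← QuotientGroup.mk'_apply]
      simp only [map_mul, map_inv, map_commutatorElement, hk _ hh₁, hk _ hh₂, mul_one, inv_mul_cancel]
    rw [← mul_inv_cancel_left ⁅m₁, m₂⁆ ⁅m₁ * h₁, m₂ * h₂⁆]
    exact mul_mem (Subgroup.mem_sup_left h1) (Subgroup.mem_sup_right h2)
  obtain ⟨_, ⟨mm, hmm, rfl⟩, h, hh, hxe⟩ := Subgroup.mem_sup_of_normal_right.1 (hcomm hx)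
  let f : M →* MulAut P₀ := Subgroup.normalizerMonoidHom P₀
  -- the image of `M ∩ H` contains the derived group of the image of `M`
  let g : M →* f.range := f.rangeRestrict
  have hgs : Function.Surjective g := f.rangeRestrict_surjective
  set V := (H.subgroupOf M).map g with hV
  haveI : V.Normal := Subgroup.Normal.map inferInstance g hgs
  have hVi : ¬ q ∣ V.index := fun hd => by
    have h1 : V.index ∣ k := (Subgroup.index_map_dvd _ hgs).trans (Subgroup.relIndex_dvd_index_of_normal H M)
    have h2 : q ∣ m := hqD.trans D.index_dvd_card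
    exact hq.ne_one (Nat.eq_one_of_dvd_coprimes hcop h2 (hd.trans h1))
  have hcyc' : ∀ A : Subgroup P₀, IsMulCommutative A → IsCyclic A := by
    intro A hA
    let e' : P₀ ≃* (P : Subgroup H) := ((P : Subgroup H).equivMapOfInjective _ H.subtype_injective).symm
    have hinj : Function.Injective ((P : Subgroup H).subtype.comp e'.toMonoidHom) :=
      (Subgroup.subtype_injective _).comp e'.injective
    have h1 : IsCyclic (A.map ((P : Subgroup H).subtype.comp e'.toMonoidHom)) := by
      refine hcyc _ ⟨⟨?_⟩⟩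
      rintro ⟨_, u, hu, rfl⟩ ⟨_, v, hv, rfl⟩
      have := congrArg (fun z : A => (P : Subgroup H).subtype.comp e'.toMonoidHom (z : P₀))
        (hA.1.comm ⟨u, hu⟩ ⟨v, hv⟩)
      simp only [Subgroup.coe_mul, map_mul] at this
      exact Subtype.ext this
    exact (A.equivMapOfInjective _ hinj).isCyclic.2 h1
  have hgm : g mm ∈ V := by
    have h1 : commutator M ≤ V.comap g := by
      rw [commutator_def, Subgroup.commutator_le]
      intro u _ v _
      rw [Subgroup.mem_comap, map_commutatorElement]
      exact quotient_comm_mulAut hcyc' (P.2.map H.subtype) f.range V hVi (g u) (g v)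
    exact h1 hmm
  obtain ⟨h', hh', hfh⟩ := hgm
  set y : M := mm * h'⁻¹ with hy
  have hyker : ((y : M) : N) ∈ Subgroup.centralizer (P₀ : Set N) := by
    have h1 : f y = 1 := by
      have := congrArg Subtype.val hfh
      rw [hy, map_mul, map_inv, show f mm = f h' from this.symm, mul_inv_cancel]
    have h2 : y ∈ (Subgroup.normalizerMonoidHom P₀).ker := h1
    rwa [Subgroup.normalizerMonoidHom_ker, Subgroup.mem_subgroupOf] at h2
  set b := ((y : M) : N) ^ e with hb
  have hbP : b ∈ Subgroup.centralizer (P₀ : Set N) := pow_mem hyker e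
  have hba : QuotientGroup.mk' H b = QuotientGroup.mk' H a := by
    rw [hb, (hpart _).2, ha, (hpart _).2, hy, Subgroup.coe_mul, Subgroup.coe_inv, map_mul, map_inv,
      ← hxe, map_mul, (QuotientGroup.eq_one_iff h).2 hh |> (fun t => (t : QuotientGroup.mk' H h = 1)),
      (QuotientGroup.eq_one_iff (h' : N)).2 (Subgroup.mem_subgroupOf.1 hh')
        |> (fun t => (t : QuotientGroup.mk' H (h' : N) = 1))]
    simp
  have hbk : (orderOf b).Coprime m :=
    hcop.symm.coprime_dvd_left (orderOf_dvd_of_pow_eq_one (hpart _).1)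
  -- `b` is conjugate into `⟨a⟩` under `H`
  have hble : Subgroup.zpowers b ≤ Subgroup.zpowers a ⊔ H := by
    rw [Subgroup.zpowers_le]
    have h1 : a⁻¹ * b ∈ H := QuotientGroup.eq.1 hba.symm
    rw [← mul_inv_cancel_left a b]
    exact mul_mem (Subgroup.mem_sup_left (Subgroup.mem_zpowers a)) (Subgroup.mem_sup_right h1)
  obtain ⟨g₀, hg₀, hle⟩ := CfsgLib.Coprime.exists_conj_le_of_coprime (A := Subgroup.zpowers a)
    (G := H) (B := Subgroup.zpowers b) (by rw [Subgroup.normalizer_eq_top]; exact le_top)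
    (by rw [Nat.card_zpowers]; exact hbk) (Or.inl inferInstance) hble
  obtain ⟨c, hc, hcb⟩ := hle (Subgroup.mem_zpowers b)
  have hcb' : g₀ * c * g₀⁻¹ = b := hcb
  have hca : c = a := by
    have h1 : QuotientGroup.mk' H c = QuotientGroup.mk' H a := by
      rw [← hba, ← hcb', map_mul, map_mul, map_inv,
        show QuotientGroup.mk' H g₀ = 1 from (QuotientGroup.eq_one_iff g₀).2 hg₀]
      simp
    have h2 : c⁻¹ * a ∈ H := QuotientGroup.eq.1 h1
    have h3 : orderOf (c⁻¹ * a) ∣ orderOf a := by
      rw [← Nat.card_zpowers a]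
      exact Subgroup.orderOf_dvd_natCard _ (mul_mem (inv_mem hc) (Subgroup.mem_zpowers a))
    exact inv_mul_eq_one.1 (orderOf_eq_one_iff.1
      (Nat.eq_one_of_dvd_coprimes hak h3 (Subgroup.orderOf_dvd_natCard H h2)))
  rw [hca] at hcb'
  -- the conjugate Sylow subgroup
  set g₁ : H := ⟨g₀⁻¹, inv_mem hg₀⟩ with hg₁
  have hle' : (P : Subgroup H).map (MulAut.conj g₁).toMonoidHom ≤ D := by
    rintro _ ⟨u, hu, rfl⟩
    rw [hD, Subgroup.mem_subgroupOf, Subgroup.mem_centralizer_singleton_iff]
    have h1 : (u : N) * b = b * u := Subgroup.mem_centralizer_iff.1 hbP _ ⟨u, hu, rfl⟩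
    simp only [MulEquiv.coe_toMonoidHom, MulAut.conj_apply, Subgroup.coe_mul, Subgroup.coe_inv, hg₁, inv_inv]
    rw [← hcb'] at h1
    calc g₀⁻¹ * (u : N) * g₀ * a = g₀⁻¹ * ((u : N) * (g₀ * a * g₀⁻¹)) * g₀ := by group
      _ = g₀⁻¹ * ((g₀ * a * g₀⁻¹) * (u : N)) * g₀ := by rw [h1]
      _ = a * (g₀⁻¹ * (u : N) * g₀) := by group
  have h4 := hqD.trans (Subgroup.index_dvd_of_le hle')
  rw [Subgroup.index_map_of_bijective (MulAut.conj g₁).bijective] at h4
  exact P.not_dvd_index h4

end CfsgLib.TIHall
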